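import Cfsg.Agent.Lib.Involution.UnitaryCentralizer.Socle

/-!
`PGU(3, q)`, `q` even, is determined by the centraliser of an involution, granted the structural form of Bender's
theorem.
-/

set_option autoImplicit false
set_option linter.unusedSectionVars false
set_option linter.style.haveILetI false

namespace CfsgLib.Involution.UnitaryCentralizer

open Subgroup CfsgLib.RankOne.UnitarySylow CfsgLib.Classical CfsgLib.Involution.SEModule CfsgLib.KnownC.AutPSU

variable {F : Type*} [Field F] [Fintype F] [CharP F 2] {σ : F →+* F} [hσ : Fact (IsConjugation σ)]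
  {q : ℕ} [hq : Fact (Fintype.card F = q ^ 2 ∧ ∀ x, σ x = x ^ q)] [hF : Fact (Fintype.card F = q ^ 2)]

local notation "G3" => Cfsg.GU 3 F q
local notation "S3" => Cfsg.SU 3 F q
local notation "P3" => (Cfsg.GU 3 F q) ⧸ Subgroup.center (Cfsg.GU 3 F q)

include hq in
theorem sigma_ringEquiv (τ : F ≃+* F) {z : F} (hz : σ z = z) : σ (τ z) = τ z := by
  rw [hq.out.2, ← map_pow, ← hq.out.2, hz]

/-- A central element of the Heisenberg group. -/
def zel (z : F) (hz : σ z = z) : Heis σ :=
  ⟨0, z, by rw [hz, map_zero, mul_zero, RankOne.UnitarySylow.add_self]⟩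

/-- The Heisenberg group in `PSU`. -/
def repPSU : Heis σ →* Cfsg.PSU 3 F q :=
  (QuotientGroup.mk' _).comp (repSU (σ := σ) (q := q))

theorem card_center_odd : Odd (Nat.card (center S3)) := by
  rw [card_center_SU hF.out (by norm_num)]
  exact Odd.of_dvd_nat (show Odd 3 by decide) (Nat.gcd_dvd_left _ _)

theorem repSU_injective : Function.Injective (repSU (σ := σ) (q := q)) := fun g h e =>
  rep_injective (σ := σ) (q := q) (congrArg (suToGU 3 F q) e)

theorem eq_one_of_central {ζ : S3} (hζ : ζ ∈ center S3) {k : ℕ} (h : ζ ^ 2 ^ k = 1) : ζ = 1 :=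
  orderOf_eq_one_iff.1 (Nat.eq_one_of_dvd_coprimes ((Nat.coprime_two_left.2 card_center_odd).pow_left k)
    (orderOf_dvd_of_pow_eq_one h) (Subgroup.orderOf_dvd_natCard _ hζ))

theorem heis_pow_four (g : Heis σ) : g ^ 2 ^ 2 = 1 := by
  rw [show (2 : ℕ) ^ 2 = 2 * 2 from rfl, pow_mul, pow_two, pow_two, mul_self_eq_one, mul_c,
    RankOne.UnitarySylow.add_self]

theorem repPSU_injective : Function.Injective (repPSU (σ := σ) (q := q)) := by
  refine (injective_iff_map_eq_one _).2 fun g hg => repSU_injective (σ := σ) (q := q) ?_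
  rw [eq_one_of_central ((QuotientGroup.eq_one_iff _).1 hg) (k := 2) (by rw [← map_pow, heis_pow_four, map_one]),
    map_one]

theorem smat_zel (z : F) (hz : σ z = z) :
    smat (repSU (σ := σ) (q := q) (zel z hz)) = 1 + z • !![(1 : F), 1, 0; 1, 1, 0; 0, 0, 0] := by
  show repMat (zel z hz) = _
  ext i j
  fin_cases i <;> fin_cases j <;> simp [repMat, zel]

/-- A semilinear map acts semilinearly on the central root group. -/
theorem act {A : G3} {τ : F ≃+* F} {w : F} (hw : σ w = w)
    (h : semiAut A τ (repPSU (zel (σ := σ) 1 (map_one σ))) = repPSU (zel w hw)) (z : F) (hz : σ z = z) :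
    semiAut A τ (repPSU (zel (σ := σ) z hz)) =
      repPSU (zel (w * τ z) (by rw [map_mul, hw, sigma_ringEquiv (q := q) τ hz])) := by
  change (QuotientGroup.mk (semiHom A τ (repSU (zel 1 (map_one σ)))) : Cfsg.PSU 3 F q) =
    QuotientGroup.mk (repSU (zel w hw)) at h
  have h1 : semiHom A τ (repSU (zel 1 (map_one σ))) = repSU (zel w hw) := by
    rw [QuotientGroup.eq] at h
    set s := semiHom A τ (repSU (σ := σ) (zel 1 (map_one σ)))
    set t := repSU (σ := σ) (q := q) (zel w hw)
    have hs : s * s = 1 := by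
      rw [← map_mul, ← map_mul, (mul_self_eq_one _).2 rfl, map_one, map_one]
    have ht : t * t = 1 := by rw [← map_mul, (mul_self_eq_one _).2 rfl, map_one]
    have hz1 : (s⁻¹ * t) ^ 2 ^ 1 = 1 := by
      have hc : s⁻¹ * t * s = s * (s⁻¹ * t) := (Subgroup.mem_center_iff.1 h s).symm
      rw [mul_inv_cancel_left] at hc
      rw [inv_eq_of_mul_eq_one_right hs] at hc ⊢
      rw [pow_one, pow_two, show s * t * (s * t) = s * t * s * t by group, hc, ht]
    exact (inv_mul_eq_one.1 (eq_one_of_central h hz1))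
  have h2 := congrArg smat h1
  rw [smat_semiHom, smat_zel, smat_zel] at h2
  show (QuotientGroup.mk (semiHom A τ (repSU (zel z hz))) : Cfsg.PSU 3 F q) = QuotientGroup.mk _
  refine congrArg _ (smat_ext ?_)
  rw [smat_semiHom, smat_zel, smat_zel]
  set M : Matrix (Fin 3) (Fin 3) F := !![(1 : F), 1, 0; 1, 1, 0; 0, 0, 0] with hM
  have hmap : ∀ c : F, (1 + c • M).map τ = 1 + τ c • M := fun c => by
    ext i j
    fin_cases i <;> fin_cases j <;> simp [hM]
  have hAA : umat A * (((A⁻¹ : G3) : GL (Fin 3) F) : Matrix (Fin 3) (Fin 3) F) = 1 := umat_mul_inv A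
  rw [hmap, map_one, one_smul, Matrix.mul_add, Matrix.add_mul, Matrix.mul_one, hAA, add_right_inj] at h2
  rw [hmap, Matrix.mul_add, Matrix.add_mul, Matrix.mul_one, hAA, Matrix.mul_smul, Matrix.smul_mul, h2, smul_smul,
    mul_comm w]

/-- An automorphism of the field fixing the real subfield is trivial or the conjugation. -/
theorem eq_one_or_conj (τ : F ≃+* F) (h : ∀ z, σ z = z → τ z = z) : τ = 1 ∨ ∀ x, τ x = σ x := by
  obtain ⟨ω, hω⟩ := hσ.out.exists_not_fixed
  have hT : σ (ω + σ ω) = ω + σ ω := by rw [map_add, hσ.out.invol, add_comm]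
  have hT0 : ω + σ ω ≠ 0 := fun e => hω (by linear_combination e - ω * two0 (F := F))
  have hroot : (τ ω - ω) * (τ ω - σ ω) = 0 := by
    have h1 := h _ hT
    have h2 := h _ (hσ.out.norm_fixed ω)
    rw [map_add] at h1
    rw [map_mul] at h2
    linear_combination (τ ω) * h1 - h2
  have hsum : ∀ x, σ (x + σ x) = x + σ x := fun x => by rw [map_add, hσ.out.invol, add_comm]
  have hdec : ∀ x, ∃ a b, σ a = a ∧ σ b = b ∧ x = a + b * ω := fun x => by
    refine ⟨x - (x + σ x) / (ω + σ ω) * ω, (x + σ x) / (ω + σ ω), ?_, by rw [map_div₀, hsum, hT], by ring⟩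
    rw [map_sub, map_mul, map_div₀, hsum, hT]
    field_simp
    linear_combination (σ x * ω - σ ω * x) * two0 (F := F)
  rcases mul_eq_zero.1 hroot with e | e
  · refine Or.inl (RingEquiv.ext fun x => ?_)
    obtain ⟨a, b, ha, hb, rfl⟩ := hdec x
    rw [map_add, map_mul, h a ha, h b hb, sub_eq_zero.1 e]
    rfl
  · refine Or.inr fun x => ?_
    obtain ⟨a, b, ha, hb, rfl⟩ := hdec x
    rw [map_add, map_mul, h a ha, h b hb, sub_eq_zero.1 e, map_add, map_mul, ha, hb]

theorem semiAut_pow (A : G3) (τ : F ≃+* F) : ∀ m : ℕ, ∃ B : G3, semiAut A τ ^ m = semiAut B (τ ^ m)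
  | 0 => ⟨1, by rw [pow_zero, pow_zero, semiAut_one]⟩
  | m + 1 => by
    obtain ⟨B, hB⟩ := semiAut_pow A τ m
    exact ⟨B * gMap (τ ^ m) A, by rw [pow_succ, hB, semiAut_mul, pow_succ]⟩

/-- The projective group inside the automorphism group. -/
def toAut : P3 →* MulAut (Cfsg.PSU 3 F q) :=
  QuotientGroup.lift (center G3)
    (MonoidHom.mk' (fun A => semiAut A 1) fun A B => by rw [semiAut_mul, gMap_one, one_mul]) fun A hA => by
      refine MonoidHom.mem_ker.2 (MulEquiv.ext fun x => ?_)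
      induction x using QuotientGroup.induction_on with
      | _ s =>
        show semiAut A 1 (QuotientGroup.mk s) = _
        rw [semiAut_mk]
        refine congrArg _ (suToGU_injective ?_)
        rw [suToGU_semiHom, gMap_one, ← Subgroup.mem_center_iff.1 hA, mul_inv_cancel_right]

theorem toAut_mk (A : G3) : toAut (QuotientGroup.mk A : P3) = semiAut A 1 := rfl

theorem toAut_injective (h2 : 2 < q) : Function.Injective (toAut (F := F) (q := q)) := by
  refine (injective_iff_map_eq_one _).2 fun p hp => ?_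
  obtain ⟨A, rfl⟩ := QuotientGroup.mk_surjective p
  rw [toAut_mk, ← semiAut_one] at hp
  obtain ⟨-, u, hu⟩ := (semi_eq_iff (n := 3) le_rfl (fun h => by omega)).1 hp
  rw [mul_one] at hu
  exact (QuotientGroup.eq_one_iff _).2 (Subgroup.mem_center_iff.2 fun B => by rw [hu, sclU_comm])

theorem detU_tor (u : NOne F q) : detU (tor (σ := σ) u) = u := Subtype.ext (Units.ext (by
  rw [detU_val, umat_tor, Matrix.det_fin_three]
  simp))

variable {G : Type*} [Group G] [Finite G]

theorem identify (D : Setup σ q G) (h2 : 2 < q) (hnot : ¬ (D.S : Subgroup G).Normal) (hB : BenderStructure G) :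
    Nonempty (G ≃* P3) := by
  classical
  haveI : Fact (Nat.Prime 2) := ⟨Nat.prime_two⟩
  obtain ⟨n, hqn⟩ : ∃ n, q = 2 ^ n := by
    obtain ⟨j, -, hj⟩ := FiniteField.card F 2
    rw [hF.out] at hj
    obtain ⟨i, -, hi⟩ := (Nat.dvd_prime_pow Nat.prime_two).1 (hj ▸ dvd_pow_self q two_ne_zero : q ∣ 2 ^ (j : ℕ))
    exact ⟨i, hi⟩
  have hn : 2 ≤ n := by
    by_contra h
    have : 2 ^ n ≤ 2 ^ 1 := Nat.pow_le_pow_right (by norm_num) (by omega)
    omega
  haveI hsimple : IsSimpleGroup (Cfsg.PSU 3 F q) := Cfsg.Agent.S0283.result hF.out 3 le_rfl (fun h => by omega)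
  obtain ⟨L, e₀, hLn, hodd, hSL⟩ := exists_socle D h2 hB
  -- normalise the isomorphism
  let P : Sylow 2 ↥L := D.S.subtype hSL
  haveI : Finite (Heis σ) := Finite.of_injective D.f D.inj
  obtain ⟨T, hT⟩ : ∃ T : Sylow 2 (Cfsg.PSU 3 F q), (T : Subgroup (Cfsg.PSU 3 F q)) = (repPSU (σ := σ)).range := by
    have hp : IsPGroup 2 (repPSU (σ := σ) (q := q)).range := by
      rintro ⟨_, g, rfl⟩
      exact ⟨2, Subtype.ext (by show repPSU g ^ 2 ^ 2 = 1; rw [← map_pow, heis_pow_four, map_one])⟩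
    obtain ⟨T, hT⟩ := hp.exists_le_sylow
    refine ⟨T, (eq_of_le_of_card_ge hT (le_of_eq ?_)).symm⟩
    subst hqn
    rw [(Cfsg.Agent.S1141.result hn hF.out T).1, ← Nat.card_congr (MonoidHom.ofInjective repPSU_injective).toEquiv,
      card_heis (σ := σ) (q := 2 ^ n)]
  obtain ⟨g₀, hg₀⟩ := MulAction.exists_smul_eq (Cfsg.PSU 3 F q)
    (P.mapSurjective (f := e₀.toMonoidHom) e₀.surjective) T
  let eL : ↥L ≃* Cfsg.PSU 3 F q := e₀.trans (MulAut.conj g₀)
  have hrange : ∀ w : ↥L, (w : G) ∈ (D.S : Subgroup G) ↔ eL w ∈ (repPSU (σ := σ) (q := q)).range := by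
    intro w
    rw [← hT, ← hg₀, Sylow.coe_subgroup_smul]
    show _ ↔ MulAut.conj g₀ (e₀ w) ∈ ((P : Subgroup ↥L).map e₀.toMonoidHom).map (MulAut.conj g₀).toMonoidHom
    refine ⟨fun hw => mem_map_of_mem _ (mem_map_of_mem _ hw), ?_⟩
    rintro ⟨_, ⟨w', hw', rfl⟩, e⟩
    rwa [← e₀.injective ((MulAut.conj g₀).injective e)]
  let Ψ : G →* MulAut (Cfsg.PSU 3 F q) := (MulAut.congr eL).toMonoidHom.comp MulAut.conjNormal
  have hΨ : ∀ (g : G) (w : ↥L), Ψ g (eL w) = eL (MulAut.conjNormal g w) := fun g w => by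
    show eL (MulAut.conjNormal g (eL.symm (eL w))) = _
    rw [eL.symm_apply_apply]
  have hΨL : ∀ w : ↥L, Ψ w = MulAut.conj (eL w) := fun w => MulEquiv.ext fun x => by
    obtain ⟨y, rfl⟩ := eL.surjective x
    rw [hΨ, MulAut.conj_apply, ← map_inv, ← map_mul, ← map_mul]
    exact congrArg eL (Subtype.ext (by simp [MulAut.conjNormal_apply]))
  -- trivial centraliser
  have hK : centralizer (L : Set G) = ⊥ := by
    have hdisj : centralizer (L : Set G) ⊓ L = ⊥ := by
      rw [eq_bot_iff_forall]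
      rintro w ⟨hwc, hwL⟩
      have hcen : eL ⟨w, hwL⟩ ∈ center (Cfsg.PSU 3 F q) := Subgroup.mem_center_iff.2 fun x => by
        obtain ⟨y, rfl⟩ := eL.surjective x
        rw [← map_mul, ← map_mul]
        exact congrArg eL (Subtype.ext (Subgroup.mem_centralizer_iff.1 hwc y y.2))
      rcases (Normal.eq_bot_or_eq_top (inferInstance : (center (Cfsg.PSU 3 F q)).Normal)) with h | h
      · rw [h, mem_bot, map_eq_one_iff eL eL.injective] at hcen
        exact congrArg Subtype.val hcen
      · exfalso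
        obtain ⟨g, hg⟩ := exists_elt (σ := σ) (1 : F)
        have hgc : g ∈ center (Heis σ) := Subgroup.mem_center_iff.2 fun k => repPSU_injective (σ := σ) (q := q) (by
          rw [map_mul, map_mul]; exact Subgroup.mem_center_iff.1 (h ▸ mem_top (repPSU g)) (repPSU k))
        rw [RankOne.UnitarySylow.mem_center_iff, hg] at hgc
        exact one_ne_zero hgc
    have hdvd : Nat.card (centralizer (L : Set G)) ∣ L.index := by
      rw [index]
      refine card_dvd_of_injective ((QuotientGroup.mk' L).comp (centralizer (L : Set G)).subtype) ?_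
      refine (injective_iff_map_eq_one _).2 fun w hw => Subtype.ext ?_
      have : (w : G) ∈ centralizer (L : Set G) ⊓ L := ⟨w.2, (QuotientGroup.eq_one_iff _).1 hw⟩
      rwa [hdisj, mem_bot] at this
    haveI : (centralizer (L : Set G)).Normal := by
      rw [← normalizer_eq_top_iff, eq_top_iff]
      exact fun x _ => by
        refine mem_normalizer_fintype fun w hw => Subgroup.mem_centralizer_iff.2 fun y hy => ?_
        have h := Subgroup.mem_centralizer_iff.1 hw _ (hLn.conj_mem y hy x⁻¹)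
        rw [inv_inv] at h
        calc y * (x * w * x⁻¹) = x * (x⁻¹ * y * x * w) * x⁻¹ := by group
          _ = x * (w * (x⁻¹ * y * x)) * x⁻¹ := by rw [h]
          _ = x * w * x⁻¹ * y := by group
    rw [eq_bot_iff, ← D.oddCore_eq_bot h2]
    exact CfsgLib.Solvable.Cores.le_pPrimeCore (Nat.coprime_two_right.2 (hodd.of_dvd_nat hdvd))
  have hΨi : Function.Injective Ψ := by
    refine (injective_iff_map_eq_one _).2 fun g hg => ?_
    have : g ∈ centralizer (L : Set G) := Subgroup.mem_centralizer_iff.2 fun y hy => by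
      have h := hΨ g ⟨y, hy⟩
      rw [hg, MulAut.one_apply] at h
      have h' : y = g * y * g⁻¹ := by
        simpa [MulAut.conjNormal_apply] using congrArg Subtype.val (eL.injective h)
      nth_rw 1 [h']; group
    rwa [hK, mem_bot] at this
  -- preimages of the root group
  have hpre : ∀ (z : F) (hz : σ z = z), ∃ u : ↥L, eL u = repPSU (zel (σ := σ) z hz) ∧
      ∀ p ∈ centralizer ({D.f z₁} : Set G), p * (u : G) = u * p := by
    intro z hz
    refine ⟨eL.symm (repPSU (zel z hz)), eL.apply_symm_apply _, fun p hp => ?_⟩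
    have hu : ((eL.symm (repPSU (zel (σ := σ) z hz)) : ↥L) : G) ∈ (D.S : Subgroup G) :=
      (hrange _).2 ⟨_, (eL.apply_symm_apply _).symm⟩
    obtain ⟨g, hg⟩ := D.hS ▸ hu
    rw [← hg]
    refine D.comm g ((mul_self_eq_one g).1 (D.inj ?_)) p hp
    rw [map_mul, hg, map_one, ← Subgroup.coe_mul, ← map_mul, ← map_mul, (mul_self_eq_one _).2 rfl, map_one,
      map_one, OneMemClass.coe_one]
  obtain ⟨a, ha, -⟩ := hpre 1 (map_one σ)
  have haS : (a : G) ∈ (D.S : Subgroup G) := (hrange a).2 ⟨_, ha.symm⟩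
  have hao : orderOf (a : G) = 2 := by
    rw [Subgroup.orderOf_coe, ← MulEquiv.orderOf_eq eL, ha, orderOf_injective _ repPSU_injective]
    exact orderOf_eq_prime (by rw [pow_two]; exact (mul_self_eq_one _).2 rfl)
      fun h => one_ne_zero (congrArg Heis.b h)
  have haC : centralizer ({(a : G)} : Set G) = centralizer ({D.f z₁} : Set G) := D.eqC_mem hao haS
  -- the normaliser of `S`
  set N := normalizer ((D.S : Subgroup G) : Set G) with hN
  have hSE : Cfsg.IsStronglyEmbedded (N.subgroupOf L) := by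
    obtain ⟨-, -, hH⟩ := D.isStronglyEmbedded hnot
    refine ⟨fun h => hnot ?_, even_iff_two_dvd.2 ?_, fun g hg => (hH g hg).of_dvd_nat ?_⟩
    · rw [subgroupOf_eq_top] at h
      refine ⟨fun s hs g => ?_⟩
      obtain ⟨k, hk⟩ := D.S.2 ⟨s, hs⟩
      refine mem_sylow_of_mem_normalizer D.S (k := k) (h (hLn.conj_mem s (hSL hs) g)) ?_
      rw [conj_pow, show s ^ 2 ^ k = 1 from congrArg Subtype.val hk, mul_one, mul_inv_cancel]
    · rw [Subgroup.orderOf_coe] at hao
      have h1 : (⟨a, le_normalizer haS⟩ : N.subgroupOf L) ^ 2 = 1 := Subtype.ext (by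
        rw [SubgroupClass.coe_pow, OneMemClass.coe_one]
        exact (congrArg (a ^ ·) hao.symm).trans (pow_orderOf_eq_one a))
      have h2' : orderOf (⟨a, le_normalizer haS⟩ : N.subgroupOf L) = 2 := orderOf_eq_prime h1 fun h => by
        rw [show a = 1 from congrArg Subtype.val h, orderOf_one] at hao
        omega
      rw [← h2']
      exact orderOf_dvd_natCard _
    · refine card_dvd_of_injective ((L.subtype.comp (Subgroup.subtype _)).codRestrict _ ?_)
        fun x y h => Subtype.ext (Subtype.ext (congrArg Subtype.val h :))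
      rintro ⟨w, hw1, ⟨v, hv, hvw⟩⟩
      exact ⟨hw1, ⟨v, hv, congrArg Subtype.val hvw⟩⟩
  have hN_inndiag : ∀ m ∈ N, ∃ A : G3, Ψ m = semiAut A 1 := by
    intro m hm
    obtain ⟨A, τ, hAτ⟩ := exists_semi (n := 3) le_rfl (fun h => by omega) (Ψ m)
    have hu1 : ((MulAut.conjNormal m a : ↥L) : G) ∈ (D.S : Subgroup G) := by
      rw [MulAut.conjNormal_apply]; exact (mem_normalizer_iff.1 hm _).1 haS
    obtain ⟨g1, hg1⟩ := (hrange _).1 hu1
    have hg1c : g1.c = 0 := (mul_self_eq_one g1).1 (repPSU_injective (by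
      rw [map_mul, hg1, map_one, ← map_mul, ← map_mul, show a * a = 1 from Subtype.ext (mul_self_of_order hao),
        map_one, map_one]))
    set w := g1.b with hwdef
    have hw : σ w = w := by
      have := g1.hb
      rw [hg1c, map_zero, mul_zero] at this
      linear_combination this - w * two0 (F := F)
    have hg1' : g1 = zel w hw := Heis.ext hg1c rfl
    have hmA : semiAut A τ (repPSU (zel 1 (map_one σ))) = repPSU (zel w hw) := by
      rw [← hAτ, ← ha, hΨ, ← hg1, hg1']
    obtain ⟨l, hl⟩ := isConj_iff.1 (SE.all_conj hSE (a := a) (b := MulAut.conjNormal m a)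
      (by rwa [← Subgroup.orderOf_coe]) (by rw [MulEquiv.orderOf_eq, ← Subgroup.orderOf_coe, hao]))
    have hlm : (l : G) * a * (l : G)⁻¹ = m * a * m⁻¹ := by
      have := congrArg Subtype.val hl
      simpa [MulAut.conjNormal_apply] using this
    obtain ⟨s, hs⟩ := QuotientGroup.mk_surjective (eL l)
    have hlA : Ψ (l : G) = semiAut (suToGU 3 F q s) 1 := by rw [hΨL, ← hs, conj_mk]
    have hkC : (l : G)⁻¹ * m ∈ centralizer ({D.f z₁} : Set G) := by
      rw [← haC, mem_centralizer_singleton_iff]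
      calc (l : G)⁻¹ * m * a = (l : G)⁻¹ * (m * a * m⁻¹) * m := by group
        _ = (l : G)⁻¹ * ((l : G) * a * (l : G)⁻¹) * m := by rw [hlm]
        _ = a * ((l : G)⁻¹ * m) := by group
    have hlw : semiAut (suToGU 3 F q s) 1 (repPSU (zel 1 (map_one σ))) = repPSU (zel w hw) := by
      rw [← hlA, ← ha, hΨ, ← hg1', hg1]
      exact congrArg eL (Subtype.ext (by simpa [MulAut.conjNormal_apply] using hlm))
    have hfix : ∀ z, σ z = z → τ z = z := by
      intro z hz
      obtain ⟨u, hu, huc⟩ := hpre z hz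
      have h1 : MulAut.conjNormal m u = MulAut.conjNormal (l : G) u := by
        have := huc _ hkC
        refine Subtype.ext ?_
        rw [MulAut.conjNormal_apply, MulAut.conjNormal_apply]
        calc m * (u : G) * m⁻¹ = (l : G) * ((l : G)⁻¹ * m * u) * m⁻¹ := by group
          _ = (l : G) * (u * ((l : G)⁻¹ * m)) * m⁻¹ := by rw [this]
          _ = (l : G) * u * (l : G)⁻¹ := by group
      have h3 := act hw hmA z hz
      have h4 := act hw hlw z hz
      rw [← hAτ, ← hu, hΨ, h1, ← hΨ, hu, hlA, h4] at h3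
      have h5 : w * z = w * τ z := congrArg Heis.b (repPSU_injective h3)
      have hw0 : w ≠ 0 := fun e => by
        have : MulAut.conjNormal m a = 1 := eL.injective (by
          rw [← hg1, hg1', map_one, show zel w hw = 1 from Heis.ext rfl e, map_one])
        rw [map_eq_one_iff _ (MulAut.conjNormal m).injective] at this
        rw [this, Subgroup.coe_one, orderOf_one] at hao
        omega
      exact (mul_left_cancel₀ hw0 h5).symm
    rcases eq_one_or_conj τ hfix with rfl | hτ
    · exact ⟨A, hAτ⟩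
    exfalso
    haveI := hLn
    obtain ⟨B, hB'⟩ := semiAut_pow A τ L.index
    obtain ⟨s', hs'⟩ := QuotientGroup.mk_surjective (eL ⟨m ^ L.index, L.pow_index_mem m⟩)
    have h6 : semiAut B (τ ^ L.index) = semiAut (suToGU 3 F q s') 1 := by
      rw [← hB', ← hAτ, ← map_pow, show m ^ L.index = ((⟨m ^ L.index, L.pow_index_mem m⟩ : ↥L) : G) from rfl,
        hΨL, ← hs', conj_mk]
    obtain ⟨hτ1, -⟩ := (semi_eq_iff (n := 3) le_rfl (fun h => by omega)).1 h6
    obtain ⟨i, hi⟩ := hodd
    have hττ : τ ^ 2 = 1 := RingEquiv.ext fun x => by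
      rw [pow_two]; show τ (τ x) = x
      rw [hτ, hτ, hσ.out.invol]
    rw [hi, pow_succ, pow_mul, hττ, one_pow, one_mul] at hτ1
    obtain ⟨ω, hω⟩ := hσ.out.exists_not_fixed
    exact hω (by rw [← hτ, hτ1]; rfl)
  have hmem : ∀ g : G, Ψ g ∈ (toAut (F := F) (q := q)).range := by
    intro g
    haveI := hLn
    have htop := Sylow.normalizer_sup_eq_top' D.S hSL
    obtain ⟨m, hm, l, hl, rfl⟩ := mem_sup_of_normal_right.1 (htop ▸ mem_top g)
    obtain ⟨A, hA⟩ := hN_inndiag m hm
    obtain ⟨s, hs⟩ := QuotientGroup.mk_surjective (eL ⟨l, hl⟩)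
    refine ⟨QuotientGroup.mk A * QuotientGroup.mk (suToGU 3 F q s), ?_⟩
    rw [map_mul, map_mul, toAut_mk, toAut_mk, ← hA, ← conj_mk, hs, ← hΨL]
  have hinj := toAut_injective (F := F) (q := q) h2
  let Θ : G →* P3 := (MonoidHom.ofInjective hinj).symm.toMonoidHom.comp (Ψ.codRestrict _ hmem)
  have hΘ : ∀ g, toAut (Θ g) = Ψ g := fun g => by
    have := (MonoidHom.ofInjective hinj).apply_symm_apply (Ψ.codRestrict _ hmem g)
    exact congrArg Subtype.val this
  have hΘi : Function.Injective Θ := fun x y h => hΨi (by rw [← hΘ, ← hΘ, h])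
  have hΘS : ∀ s : S3, (QuotientGroup.mk (suToGU 3 F q s) : P3) ∈ Θ.range := fun s =>
    ⟨(eL.symm (QuotientGroup.mk s) : ↥L), hinj (by
      rw [hΘ, hΨL, eL.apply_symm_apply, toAut_mk, conj_mk])⟩
  have hΘa : Θ a = yP (σ := σ) (q := q) := hinj (by
    rw [hΘ, hΨL, ha, toAut_mk]
    exact conj_mk (repSU (σ := σ) (q := q) (zel 1 (map_one σ))))
  have hCP : (centralizer ({(a : G)} : Set G)).map Θ = CP (σ := σ) (q := q) := by
    refine eq_of_le_of_card_ge ?_ (le_of_eq ?_)
    · rintro _ ⟨p, hp, rfl⟩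
      rw [mem_centralizer_singleton_iff, ← hΘa, ← map_mul, ← map_mul, mem_centralizer_singleton_iff.1 hp]
    · rw [card_map_of_injective hΘi, card_CP, haC, D.card]
  have hsurj : Function.Surjective Θ := by
    intro p
    obtain ⟨A, rfl⟩ := QuotientGroup.mk_surjective p
    have hker : A * (tor (σ := σ) (detU A))⁻¹ ∈ (suToGU 3 F q).range := by
      obtain ⟨θ, hθ, -⟩ := exists_frob hF.out
      rw [suToGU_range hθ, MonoidHom.mem_ker, guDet_eq_one_iff]
      refine Units.ext ?_
      show (umat (A * (tor (σ := σ) (detU A))⁻¹)).det = 1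
      rw [← detU_val, map_mul, map_inv, detU_tor, mul_inv_cancel]
      rfl
    obtain ⟨s, hs⟩ := hker
    obtain ⟨g1, hg1⟩ := hΘS s
    obtain ⟨g2, -, hg2⟩ : (torP (σ := σ) (detU A) : P3) ∈ (centralizer ({(a : G)} : Set G)).map Θ :=
      hCP.symm ▸ (torP (σ := σ) (detU A)).2
    refine ⟨g1 * g2, ?_⟩
    rw [map_mul, hg1, hg2]
    show (QuotientGroup.mk (suToGU 3 F q s) : P3) * QuotientGroup.mk (tor (σ := σ) (detU A)) = _
    rw [← QuotientGroup.mk_mul, hs, inv_mul_cancel_right]
  exact ⟨MulEquiv.ofBijective Θ ⟨hΘi, hsurj⟩⟩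

/-- The theorem, for a given form of Bender's theorem. -/
theorem main {G : Type*} [Group G] [Finite G] {F : Type*} [Field F] [Fintype F] [CharP F 2] (q : ℕ)
    (hq : 2 < q) (hF : Fintype.card F = q ^ 2)
    (hB : ∀ H : Subgroup G, Cfsg.IsStronglyEmbedded H → BenderStructure G)
    (heven : Even (Nat.card G))
    (hC : ∀ (x : G) (y : (↥(Cfsg.GU 3 F q) ⧸ Subgroup.center ↥(Cfsg.GU 3 F q))), orderOf x = 2 → orderOf y = 2 →
      Nonempty (↥(Subgroup.centralizer ({x} : Set G)) ≃*
        ↥(Subgroup.centralizer ({y} : Set (↥(Cfsg.GU 3 F q) ⧸ Subgroup.center ↥(Cfsg.GU 3 F q))))))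
    (hS : ∀ P : Sylow 2 G, ¬ (P : Subgroup G).Normal) :
    Nonempty (G ≃* (↥(Cfsg.GU 3 F q) ⧸ Subgroup.center ↥(Cfsg.GU 3 F q))) := by
  classical
  obtain ⟨σ, hσq, hσc⟩ := exists_frob hF
  haveI : Fact (IsConjugation σ) := ⟨hσc⟩
  haveI : Fact (Fintype.card F = q ^ 2 ∧ ∀ x, σ x = x ^ q) := ⟨⟨hF, hσq⟩⟩
  haveI : Fact (Fintype.card F = q ^ 2) := ⟨hF⟩
  haveI : Fact (Nat.Prime 2) := ⟨Nat.prime_two⟩
  have hqe : Even q := by
    obtain ⟨j, -, hj⟩ := FiniteField.card F 2
    rw [hF] at hj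
    exact even_iff_two_dvd.2 (Nat.prime_two.dvd_of_dvd_pow (hj ▸ dvd_pow_self 2 j.ne_zero : 2 ∣ q ^ 2))
  have hy : orderOf (yP (σ := σ) (q := q)) = 2 := by
    rw [show yP (σ := σ) (q := q) = ((repP (σ := σ) (q := q) z₁ : CP (σ := σ) (q := q)) : _) from rfl,
      Subgroup.orderOf_coe, orderOf_injective _ repP_injective]
    exact orderOf_eq_prime (by rw [pow_two]; exact (mul_self_eq_one z₁).2 rfl)
      fun h => one_ne_zero (congrArg Heis.b h)
  obtain ⟨D⟩ := exists_setup (σ := σ) (even_iff_two_dvd.1 heven) hqe fun u hu => hC u _ hu hy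
  exact identify D hq (hS D.S) (hB _ (D.isStronglyEmbedded (hS D.S)))

end CfsgLib.Involution.UnitaryCentralizer
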