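import Cfsg.Agent.Lib.RankOne.UnitarySylow
import Cfsg.Agent.Lib.KnownC.AutPSU.Outer

/-!
The centraliser of a transvection in the projective general unitary group of dimension three, `q` even.
-/

set_option autoImplicit false
set_option linter.unusedSectionVars false

namespace CfsgLib.Involution.UnitaryCentralizer

open Matrix CfsgLib.Classical CfsgLib.KnownC.AutPSU CfsgLib.RankOne.UnitarySylow

variable {F : Type*} [Field F] [Fintype F] [CharP F 2] {σ : F →+* F} [hσ : Fact (IsConjugation σ)]
  {q : ℕ} [hq : Fact (Fintype.card F = q ^ 2 ∧ ∀ x, σ x = x ^ q)] [hF : Fact (Fintype.card F = q ^ 2)]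

local notation "G3" => Cfsg.GU 3 F q
local notation "S3" => Cfsg.SU 3 F q
local notation "P3" => (Cfsg.GU 3 F q) ⧸ Subgroup.center (Cfsg.GU 3 F q)

/-- The Heisenberg group in the special unitary group. -/
def repSU : Heis σ →* S3 := (repSL (σ := σ)).codRestrict _ (repSL_mem (σ := σ) (q := q))

/-- The Heisenberg group in the general unitary group. -/
def rep : Heis σ →* G3 := (suToGU 3 F q).comp repSU

theorem umat_rep (g : Heis σ) : umat (rep (σ := σ) (q := q) g) = repMat g := rfl

theorem rep_injective : Function.Injective (rep (σ := σ) (q := q)) := fun g h e => by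
  have h1 := congrArg (fun x => umat x 2 0) e
  have h2 := congrArg (fun x => umat x 1 0) e
  simp [umat_rep, repMat] at h1 h2
  exact Heis.ext h1 h2

theorem norm_nOne {u : Fˣ} (h : u ∈ NOne F q) : (u : F) * σ u = 1 := by
  rw [hq.out.2]; exact nOne_mul h

/-- The torus fixing the transvection. -/
def tor : NOne F q →* G3 where
  toFun u := ⟨diagGL ![1, 1, (u : Fˣ)], diagGL_mem_GU hq.out.2 _ fun i => by
    rw [MonoidHom.mem_ker]
    refine Units.ext ?_
    fin_cases i
    · show (1 : F) * σ 1 = 1; simp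
    · show (1 : F) * σ 1 = 1; simp
    · exact norm_nOne u.2⟩
  map_one' := umat_ext (by
    show Matrix.diagonal _ = (1 : Matrix (Fin 3) (Fin 3) F)
    rw [← Matrix.diagonal_one]; congr 1; funext i; fin_cases i <;> simp)
  map_mul' u v := umat_ext (by
    show Matrix.diagonal _ = Matrix.diagonal _ * Matrix.diagonal _
    rw [Matrix.diagonal_mul_diagonal]; congr 1; funext i; fin_cases i <;> simp)

theorem umat_tor (u : NOne F q) :
    umat (tor (σ := σ) u) = !![1, 0, 0; 0, 1, 0; 0, 0, ((u : Fˣ) : F)] := by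
  show Matrix.diagonal _ = _
  ext i j
  fin_cases i <;> fin_cases j <;> simp

/-- The central element with parameter one. -/
def z₁ : Heis σ := ⟨0, 1, by rw [map_one, map_zero, mul_zero, RankOne.UnitarySylow.add_self]⟩

/-- The transvection. -/
def y₀ : G3 := rep (σ := σ) z₁

theorem umat_y₀ : umat (y₀ (σ := σ) (q := q)) = !![0, 1, 0; 1, 0, 0; 0, 0, 1] := by
  rw [y₀, umat_rep]
  simp [repMat, z₁, RankOne.UnitarySylow.add_self]

theorem rep_comm_y₀ (g : Heis σ) : rep (q := q) g * y₀ (σ := σ) = y₀ (σ := σ) * rep g := by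
  rw [y₀, ← map_mul, ← map_mul, Subgroup.mem_center_iff.1 ((mem_center_iff z₁).2 rfl) g]

theorem tor_comm_y₀ (u : NOne F q) : tor (σ := σ) u * y₀ (σ := σ) = y₀ (σ := σ) * tor (σ := σ) u := umat_ext (by
  rw [umat_mul, umat_mul, umat_y₀, umat_tor]
  ext i j
  fin_cases i <;> fin_cases j <;> simp [Matrix.mul_apply, Fin.sum_univ_three])

/-- The action of the torus on the Heisenberg group. -/
def twist (u : NOne F q) (g : Heis σ) : Heis σ :=
  ⟨((u : Fˣ) : F) * g.c, g.b, by
    rw [map_mul]
    linear_combination g.hb - (g.c * σ g.c) * norm_nOne (σ := σ) u.2⟩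

theorem tor_conj (u : NOne F q) (g : Heis σ) :
    tor (σ := σ) u * rep g = rep (twist u g) * tor (σ := σ) u := umat_ext (by
  have hn := norm_nOne (σ := σ) u.2
  rw [umat_mul, umat_mul, umat_tor, umat_rep, umat_rep]
  ext i j
  fin_cases i <;> fin_cases j <;> simp [repMat, twist, Matrix.mul_apply, Fin.sum_univ_three, map_mul]
  all_goals linear_combination (-(σ g.c)) * hn)

/-- The shape of an element commuting with the transvection. -/
theorem shape {A : G3} (h : A * y₀ (σ := σ) = y₀ (σ := σ) * A) :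
    umat A 1 1 = umat A 0 0 ∧ umat A 1 0 = umat A 0 1 ∧ umat A 1 2 = umat A 0 2 ∧
      umat A 2 1 = umat A 2 0 := by
  have h := congrArg umat h
  rw [umat_mul, umat_mul, umat_y₀] at h
  have e := fun i j => congrFun (congrFun h i) j
  have h1 := e 0 1
  have h2 := e 0 0
  have h3 := e 0 2
  have h4 := e 2 0
  simp [Matrix.mul_apply, Fin.sum_univ_three] at h1 h2 h3 h4
  exact ⟨h1.symm, h2.symm, h3.symm, h4⟩

theorem col (A : G3) (i j : Fin 3) :
    umat A 0 i * σ (umat A 0 j) + umat A 1 i * σ (umat A 1 j) + umat A 2 i * σ (umat A 2 j) =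
      if i = j then 1 else 0 := by
  have h := (KnownC.GUFieldCentraliser.GU_mem_iff hF.out).1 A.2 i j
  simpa [Fin.sum_univ_three, hq.out.2] using h

/-- The decomposition of the centraliser of the transvection. -/
theorem decomp {A : G3} (h : A * y₀ (σ := σ) = y₀ (σ := σ) * A) :
    ∃ (l u : NOne F q) (g : Heis σ), A = sclU l * (rep g * tor (σ := σ) u) := by
  obtain ⟨a1, a2, a3, a4⟩ := shape h
  have c00 := col (σ := σ) A 0 0
  have c01 := col (σ := σ) A 0 1
  have c02 := col (σ := σ) A 0 2
  have c22 := col (σ := σ) A 2 2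
  simp only [a1, a2, a3, a4, if_true, if_neg (show (0 : Fin 3) ≠ 1 by decide),
    if_neg (show (0 : Fin 3) ≠ 2 by decide)] at c00 c01 c02 c22
  set a := umat A 0 0 with ha
  set b := umat A 0 1 with hb
  set x := umat A 0 2 with hx
  set y := umat A 2 0 with hy
  set e := umat A 2 2 with he
  have hnl : (a + b) * σ (a + b) = 1 := by
    rw [map_add]; linear_combination c00 + c01 - (y * σ y) * two0 (F := F)
  have hne : e * σ e = 1 := by linear_combination c22 - (x * σ x) * two0 (F := F)
  have mk : ∀ v : F, v * σ v = 1 → ∃ w : NOne F q, ((w : Fˣ) : F) = v := fun v hv => by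
    have hv0 : v ≠ 0 := fun e => by simp [e] at hv
    exact ⟨⟨Units.mk0 v hv0, Units.ext (by
      show v ^ (q + 1) = 1
      rw [pow_succ', ← hq.out.2, hv])⟩, rfl⟩
  obtain ⟨l, hl⟩ := mk _ hnl
  obtain ⟨u, hu⟩ := mk (e * σ (a + b)) (by
    rw [map_mul, hσ.out.invol]; linear_combination (a + b) * σ (a + b) * hne + hnl)
  set m := σ (a + b) with hm
  have hσm : σ m = a + b := hσ.out.invol _
  have hmab : m = σ a + σ b := map_add σ a b
  have hg : b * m + σ (b * m) = y * m * σ (y * m) := by
    rw [map_mul, map_mul, hσm]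
    linear_combination c01 + b * hmab + (b * σ b - y * σ y) * two0 (F := F) - (y * σ y) * hnl
  have h1 : m * x + σ y * e = 0 := by
    have h1 := congrArg σ c02
    simp only [map_add, map_mul, map_zero, hσ.out.invol] at h1
    linear_combination h1 + x * hmab
  have e00 : (a + b) * (1 + b * m) = a := by linear_combination b * hnl + b * two0 (F := F)
  have e01 : (a + b) * (b * m) = b := by linear_combination b * hnl
  have e20 : (a + b) * (y * m) = y := by linear_combination y * hnl
  have e22 : (a + b) * (e * m) = e := by linear_combination e * hnl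
  have e02 : (a + b) * (σ y * σ m * (e * m)) = x := by
    rw [hσm]
    linear_combination (-(a + b)) * h1 + x * hnl + ((a + b) * σ y * e) * hnl + ((a + b) * σ y * e) * two0 (F := F)
  refine ⟨l, u, ⟨y * m, b * m, hg⟩, umat_ext ?_⟩
  rw [umat_mul, umat_mul, umat_sclU, umat_rep, umat_tor, Matrix.smul_mul, Matrix.one_mul, hl, hu]
  ext i j
  fin_cases i <;> fin_cases j <;> simp [repMat, Matrix.mul_apply, Fin.sum_univ_three, ← ha, ← hb, ← hx, ← hy,
    ← he, a1, a2, a3, a4, e00, e01, e20, e22, e02]

/-- Commutation modulo scalars is commutation. -/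
theorem comm_of_mk_comm {A : G3} (h : (A : P3) * (y₀ (σ := σ) : G3) = (y₀ (σ := σ) : G3) * (A : P3)) :
    A * y₀ (σ := σ) = y₀ (σ := σ) * A := by
  rw [← QuotientGroup.mk_mul, ← QuotientGroup.mk_mul, QuotientGroup.eq] at h
  obtain ⟨c, hc⟩ := gu_center_scalar hF.out (by norm_num) h
  set y : G3 := y₀ (σ := σ)
  have hy : y * y = 1 := by
    show y₀ (σ := σ) * y₀ (σ := σ) = (1 : G3)
    rw [y₀, ← map_mul, (mul_self_eq_one z₁).2 rfl, map_one]
  obtain ⟨u, hu⟩ := exists_sclU (hF := hF) (by norm_num) hc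
  have h1 : y * A = A * y * sclU u := by rw [← hu]; group
  have h2 : A = A * (sclU u * sclU u) := by
    calc A = y * (y * A) := by rw [← mul_assoc, hy, one_mul]
      _ = y * (A * y * sclU u) := congrArg (y * ·) h1
      _ = y * A * (y * sclU u) := by group
      _ = A * (sclU u * sclU u) := by
        rw [h1, mul_assoc (A * y), ← mul_assoc (sclU u : G3) y, sclU_comm u y, mul_assoc y, ← mul_assoc (A * y),
          mul_assoc A y y, hy, mul_one]
  rw [left_eq_mul] at h2
  have h3 : u * u = 1 := sclU_injective (n := 3) (by norm_num) (by rw [map_mul, map_one, h2])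
  have h4 : u = 1 := by
    refine Subtype.ext (Units.ext ?_)
    have h5 : ((u : Fˣ) : F) * (u : Fˣ) = 1 := by
      have := congrArg (fun v : NOne F q => ((v : Fˣ) : F)) h3
      simpa using this
    have h6 : (((u : Fˣ) : F) - 1) ^ 2 = 0 := by linear_combination h5 - (((u : Fˣ) : F) - 1) * two0 (F := F)
    simpa using sub_eq_zero.1 (eq_zero_of_pow_eq_zero h6)
  rw [h4, map_one, mul_one] at h1
  exact h1.symm

/-- The transvection modulo scalars. -/
abbrev yP : P3 := QuotientGroup.mk (y₀ (σ := σ) (q := q))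

/-- The centraliser modulo scalars. -/
abbrev CP : Subgroup P3 := Subgroup.centralizer {yP (σ := σ) (q := q)}

/-- The Heisenberg group in the centraliser. -/
def repP : Heis σ →* CP (σ := σ) (q := q) :=
  ((QuotientGroup.mk' _).comp (rep (σ := σ) (q := q))).codRestrict _ fun g =>
    Subgroup.mem_centralizer_singleton_iff.2 (by
      show (QuotientGroup.mk (rep g) : P3) * _ = _ * (QuotientGroup.mk (rep g) : P3)
      rw [yP, ← QuotientGroup.mk_mul, ← QuotientGroup.mk_mul, rep_comm_y₀])

/-- The torus in the centraliser. -/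
def torP : NOne F q →* CP (σ := σ) (q := q) :=
  ((QuotientGroup.mk' _).comp (tor (σ := σ))).codRestrict _ fun g =>
    Subgroup.mem_centralizer_singleton_iff.2 (by
      show (QuotientGroup.mk (tor (σ := σ) g) : P3) * _ = _ * (QuotientGroup.mk (tor (σ := σ) g) : P3)
      rw [yP, ← QuotientGroup.mk_mul, ← QuotientGroup.mk_mul, tor_comm_y₀])

theorem exists_eq (p : CP (σ := σ) (q := q)) :
    ∃ (g : Heis σ) (u : NOne F q), p = repP g * torP u := by
  obtain ⟨A, hA⟩ := QuotientGroup.mk_surjective p.1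
  have h := Subgroup.mem_centralizer_singleton_iff.1 p.2
  rw [← hA] at h
  obtain ⟨l, u, g, hlug⟩ := decomp (comm_of_mk_comm h)
  refine ⟨g, u, Subtype.ext ?_⟩
  rw [← hA, hlug, QuotientGroup.mk_mul, (QuotientGroup.eq_one_iff _).2 (Subgroup.mem_center_iff.2 fun B =>
    (sclU_comm l B).symm), one_mul]
  rfl

theorem eq_of_mk_eq {g g' : Heis σ} {u u' : NOne F q}
    (h : repP (q := q) g * torP u = repP g' * torP u') : g = g' ∧ u = u' := by
  have h := congrArg Subtype.val h
  change (QuotientGroup.mk (rep g * tor (σ := σ) u) : P3) = QuotientGroup.mk (rep g' * tor (σ := σ) u') at h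
  rw [QuotientGroup.eq] at h
  obtain ⟨c, hc⟩ := gu_center_scalar hF.out (by norm_num) h
  obtain ⟨w, hw⟩ := exists_sclU (hF := hF) (by norm_num) hc
  have h1 : rep g' * tor (σ := σ) u' = sclU w * (rep g * tor (σ := σ) u) := by
    rw [sclU_comm, ← hw, mul_inv_cancel_left]
  have e := fun i j => congrFun (congrFun (congrArg umat h1) i) j
  have e00 := e 0 0
  have e01 := e 0 1
  have e20 := e 2 0
  have e22 := e 2 2
  simp [umat_mul, umat_sclU, umat_rep, umat_tor, repMat, Matrix.mul_apply, Fin.sum_univ_three] at e00 e01 e20 e22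
  have hw1 : ((w : Fˣ) : F) = 1 := by linear_combination -e00 + e01
  rw [hw1, one_mul] at e01 e20 e22
  exact ⟨(Heis.ext e20 e01).symm, (Subtype.ext (Units.ext e22)).symm⟩

theorem twist_one (g : Heis σ) : twist (q := q) (1 : NOne F q) g = g :=
  Heis.ext (by simp [twist]) rfl

theorem card_CP : Nat.card (CP (σ := σ) (q := q)) = q ^ 3 * (q + 1) := by
  rw [← card_heis (σ := σ) (q := q), ← card_nOne (F := F) (q := q), ← Nat.card_prod]
  refine (Nat.card_congr (Equiv.ofBijective (fun p : Heis σ × NOne F q => repP p.1 * torP p.2) ⟨?_, ?_⟩)).symm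
  · intro a b h
    exact Prod.ext (eq_of_mk_eq h).1 (eq_of_mk_eq h).2
  · intro p
    obtain ⟨g, u, rfl⟩ := exists_eq p
    exact ⟨(g, u), rfl⟩

theorem torP_conj (u : NOne F q) (g : Heis σ) :
    torP (σ := σ) u * repP g = repP (twist u g) * torP u := Subtype.ext (by
  show (QuotientGroup.mk (tor (σ := σ) u * rep g) : P3) = QuotientGroup.mk (rep (twist u g) * tor (σ := σ) u)
  rw [tor_conj])

theorem repP_injective : Function.Injective (repP (σ := σ) (q := q)) := fun g g' h =>
  (eq_of_mk_eq (u := 1) (u' := 1) (by rw [h])).1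

theorem range_normal : (repP (σ := σ) (q := q)).range.Normal := ⟨by
  rintro _ ⟨g, rfl⟩ p
  obtain ⟨k, u, rfl⟩ := exists_eq p
  refine ⟨k * twist u g * k⁻¹, ?_⟩
  rw [map_mul, map_mul, map_inv, _root_.mul_inv_rev, mul_assoc (repP k) (torP u), torP_conj]
  group⟩

theorem central {g : Heis σ} (hg : g.c = 0) :
    repP (q := q) g ∈ Subgroup.center (CP (σ := σ) (q := q)) := by
  rw [Subgroup.mem_center_iff]
  intro p
  obtain ⟨k, u, rfl⟩ := exists_eq p
  have h : twist u g = g := Heis.ext (by show _ * g.c = g.c; rw [hg, mul_zero]) rfl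
  rw [mul_assoc, torP_conj, h, ← mul_assoc, ← map_mul, Subgroup.mem_center_iff.1 ((mem_center_iff g).2 hg) k,
    map_mul, mul_assoc]

theorem centralizer_range :
    Subgroup.centralizer ((repP (σ := σ) (q := q)).range : Set (CP (σ := σ) (q := q))) ≤
      (repP (σ := σ) (q := q)).range := by
  intro p hp
  obtain ⟨k, u, rfl⟩ := exists_eq p
  obtain ⟨g, hg⟩ := exists_elt (σ := σ) 1
  have h := Subgroup.mem_centralizer_iff.1 hp _ ⟨g, rfl⟩
  rw [mul_assoc (repP k), torP_conj, ← mul_assoc, ← mul_assoc, ← map_mul, ← map_mul] at h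
  have h1 := congrArg Heis.c (eq_of_mk_eq h).1
  rw [mul_c, mul_c] at h1
  change g.c + k.c = k.c + ((u : Fˣ) : F) * g.c at h1
  rw [hg, mul_one] at h1
  have : u = 1 := Subtype.ext (Units.ext (by
    show ((u : Fˣ) : F) = 1
    linear_combination -h1))
  exact ⟨k, by rw [this, map_one, mul_one]⟩

end CfsgLib.Involution.UnitaryCentralizer
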