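import Cfsg.Agent.Lib.Involution.UnitaryCentralizer.Model
import Cfsg.Agent.Lib.Involution.SEModule.Main
import Cfsg.Agent.Lib.Coprime.Generation
import Cfsg.Agent.Lib.KnownB.SuzukiFacts
import Cfsg.Agent.Lib.Chevalley.G2Two.Transfer
import Cfsg.Agent.S1141
import Cfsg.Agent.S0283

/-!
A group with one class of involutions and the involution centraliser of `PGU(3, q)`, `q` even, has `PSU(3, q)`
as a normal subgroup of odd index, granted the structural form of Bender's theorem.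
-/

set_option autoImplicit false
set_option linter.unusedSectionVars false
set_option linter.style.haveILetI false

namespace CfsgLib.Involution.UnitaryCentralizer

open Subgroup CfsgLib.RankOne.UnitarySylow CfsgLib.Classical CfsgLib.Involution.SEModule

variable {F : Type*} [Field F] [Fintype F] [CharP F 2] {σ : F →+* F} [hσ : Fact (IsConjugation σ)]
  {q : ℕ} [hq : Fact (Fintype.card F = q ^ 2 ∧ ∀ x, σ x = x ^ q)] [hF : Fact (Fintype.card F = q ^ 2)]

variable {G : Type*} [Group G]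

theorem mem_sylow_of_mem_normalizer {p : ℕ} (S : Sylow p G) {s : G} (hs : s ∈ normalizer ((S : Subgroup G) : Set G))
    {k : ℕ} (hk : s ^ p ^ k = 1) : s ∈ (S : Subgroup G) := by
  have h1 : IsPGroup p (zpowers s) := by
    rintro ⟨_, i, rfl⟩
    exact ⟨k, Subtype.ext (by
      show (s ^ i) ^ p ^ k = 1
      rw [← zpow_natCast (s ^ i), ← zpow_mul, mul_comm, zpow_mul, zpow_natCast, hk, one_zpow])⟩
  have h2 := IsPGroup.to_sup_of_normal_right' h1 S.2 (zpowers_le.2 hs)
  rw [← S.3 h2 le_sup_right]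
  exact mem_sup_left (mem_zpowers s)

variable [Finite G]

/-- The Heisenberg group as Sylow subgroup inside an involution centraliser. -/
structure Setup (σ : F →+* F) [Fact (IsConjugation σ)] (q : ℕ) (G : Type*) [Group G] where
  f : Heis σ →* G
  inj : Function.Injective f
  S : Sylow 2 G
  hS : (S : Subgroup G) = f.range
  card : Nat.card (centralizer ({f z₁} : Set G)) = q ^ 3 * (q + 1)
  le : centralizer ({f z₁} : Set G) ≤ normalizer ((S : Subgroup G) : Set G)
  comm : ∀ g, g.c = 0 → ∀ p ∈ centralizer ({f z₁} : Set G), p * f g = f g * p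
  self : ∀ p ∈ centralizer ({f z₁} : Set G), (∀ g, p * f g = f g * p) → p ∈ f.range
  eqC : ∀ u v : G, orderOf u = 2 → orderOf v = 2 → u * v = v * u →
    centralizer ({u} : Set G) = centralizer ({v} : Set G)

theorem mul_self_of_order {u : G} (hu : orderOf u = 2) : u * u = 1 := by
  rw [← pow_two, ← hu, pow_orderOf_eq_one]

/-- The setup exists. -/
theorem exists_setup (heven : 2 ∣ Nat.card G) (hq2 : Even q)
    (hC : ∀ u : G, orderOf u = 2 → Nonempty (↥(centralizer ({u} : Set G)) ≃* ↥(CP (σ := σ) (q := q)))) :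
    Nonempty (Setup σ q G) := by
  haveI : Fact (Nat.Prime 2) := ⟨Nat.prime_two⟩
  have hrep : ∀ u : G, orderOf u = 2 → ∃ f : Heis σ →* G, Function.Injective f ∧ (∀ g, f g ∈ centralizer ({u} : Set G)) ∧
      Nat.card (centralizer ({u} : Set G)) = q ^ 3 * (q + 1) ∧
      (∀ p ∈ centralizer ({u} : Set G), ∀ k : ℕ, p ^ 2 ^ k = 1 → p ∈ f.range) ∧
      (∀ p ∈ centralizer ({u} : Set G), ∀ g, p * f g * p⁻¹ ∈ f.range) ∧
      (∀ g, g.c = 0 → ∀ p ∈ centralizer ({u} : Set G), p * f g = f g * p) ∧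
      (∀ p ∈ centralizer ({u} : Set G), (∀ g, p * f g = f g * p) → p ∈ f.range) := by
    intro u hu
    obtain ⟨e⟩ := hC u hu
    refine ⟨((centralizer ({u} : Set G)).subtype.comp e.symm.toMonoidHom).comp (repP (σ := σ) (q := q)),
      ((subtype_injective _).comp e.symm.injective).comp repP_injective, fun g => (e.symm _).2,
      (Nat.card_congr e.toEquiv).trans card_CP, ?_, ?_, ?_, ?_⟩
    · intro p hp k hk
      set w := e ⟨p, hp⟩ with hw
      have hwk : w ^ 2 ^ k = 1 := by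
        rw [hw, ← map_pow, show (⟨p, hp⟩ : centralizer ({u} : Set G)) ^ 2 ^ k = 1 from Subtype.ext hk, map_one]
      obtain ⟨g, v, hgv⟩ := exists_eq w
      haveI := range_normal (σ := σ) (q := q)
      let π := QuotientGroup.mk' (repP (σ := σ) (q := q)).range
      have hv : π w = π (torP v) := by
        rw [hgv, map_mul, show π (repP g) = 1 from (QuotientGroup.eq_one_iff _).2 ⟨g, rfl⟩, one_mul]
      have h1 : orderOf (π w) ∣ 2 ^ k := (orderOf_map_dvd π w).trans (orderOf_dvd_of_pow_eq_one hwk)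
      have h2 : orderOf (π w) ∣ q + 1 := by
        rw [hv, ← KnownC.AutPSU.card_nOne (F := F) (q := q)]
        exact ((orderOf_map_dvd π (torP v)).trans (orderOf_map_dvd torP v)).trans (orderOf_dvd_natCard v)
      have h3 : π w = 1 := orderOf_eq_one_iff.1 (Nat.eq_one_of_dvd_coprimes
        ((Nat.coprime_two_left.2 hq2.add_one).pow_left k) h1 h2)
      obtain ⟨g', hg'⟩ := (QuotientGroup.eq_one_iff _).1 h3
      exact ⟨g', by simp [hg', hw]⟩
    · intro p hp g
      obtain ⟨g', hg'⟩ := (range_normal (σ := σ) (q := q)).conj_mem _ ⟨g, rfl⟩ (e ⟨p, hp⟩)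
      refine ⟨g', ?_⟩
      show ((e.symm (repP g') : centralizer ({u} : Set G)) : G) = p * ((e.symm (repP g) : _) : G) * p⁻¹
      rw [hg', map_mul, map_mul, map_inv, e.symm_apply_apply]
      rfl
    · intro g hg p hp
      have h := congrArg e.symm (mem_center_iff.1 (central (σ := σ) (q := q) hg) (e ⟨p, hp⟩))
      rw [map_mul, map_mul, e.symm_apply_apply] at h
      exact congrArg Subtype.val h
    · intro p hp hall
      have h : e ⟨p, hp⟩ ∈ centralizer ((repP (σ := σ) (q := q)).range : Set (CP (σ := σ) (q := q))) := by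
        rw [Subgroup.mem_centralizer_iff]
        rintro _ ⟨g, rfl⟩
        refine e.symm.injective ?_
        rw [map_mul, map_mul, e.symm_apply_apply]
        exact Subtype.ext (hall g).symm
      obtain ⟨g, hg⟩ := centralizer_range h
      exact ⟨g, by simp [hg]⟩
  have hle : ∀ u v : G, orderOf u = 2 → orderOf v = 2 → u * v = v * u →
      centralizer ({u} : Set G) ≤ centralizer ({v} : Set G) := by
    intro u v hu hv huv
    obtain ⟨f, hfi, -, -, htwo, -, hc, -⟩ := hrep u hu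
    obtain ⟨g, rfl⟩ := htwo v (mem_centralizer_singleton_iff.2 huv.symm) 1
      (by rw [pow_one, ← hv]; exact pow_orderOf_eq_one v)
    have hg : g.c = 0 := (mul_self_eq_one g).1 (hfi (by rw [map_mul, map_one, mul_self_of_order hv]))
    exact fun p hp => mem_centralizer_singleton_iff.2 (hc g hg p hp)
  have heq : ∀ u v : G, orderOf u = 2 → orderOf v = 2 → u * v = v * u →
      centralizer ({u} : Set G) = centralizer ({v} : Set G) :=
    fun u v hu hv huv => le_antisymm (hle u v hu hv huv) (hle v u hv hu huv.symm)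
  obtain ⟨x, hx⟩ := exists_prime_orderOf_dvd_card' 2 heven
  obtain ⟨f, hfi, hfC, hcard, htwo, hnorm, hc, hself⟩ := hrep x hx
  have hz : orderOf (f z₁) = 2 := by
    rw [orderOf_injective f hfi]
    refine orderOf_eq_prime ?_ fun h => ?_
    · rw [pow_two]; exact (mul_self_eq_one z₁).2 rfl
    · exact one_ne_zero (congrArg Heis.b h)
  have hxa : centralizer ({x} : Set G) = centralizer ({f z₁} : Set G) :=
    heq x _ hx hz (mem_centralizer_singleton_iff.1 (hfC z₁)).symm
  haveI : Finite (Heis σ) := Finite.of_injective f hfi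
  have hfcard : Nat.card f.range = q ^ 3 := by
    rw [← Nat.card_congr (MonoidHom.ofInjective hfi).toEquiv, card_heis (σ := σ) (q := q)]
  have hfp : IsPGroup 2 f.range := by
    rintro ⟨_, g, rfl⟩
    refine ⟨2, Subtype.ext ?_⟩
    show f g ^ 2 ^ 2 = 1
    have h4 : g ^ 2 ^ 2 = 1 := by
      rw [show (2 : ℕ) ^ 2 = 2 * 2 from rfl, pow_mul, pow_two, pow_two, mul_self_eq_one, mul_c,
        RankOne.UnitarySylow.add_self]
    rw [← map_pow, h4, map_one]
  obtain ⟨S, hS⟩ := hfp.exists_le_sylow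
  have hS' : (S : Subgroup G) = f.range := by
    refine (eq_of_le_of_card_ge hS ?_).symm
    rw [hfcard]
    -- a central involution of `S` has the whole of `S` in its centraliser
    haveI : Nontrivial ↥(S : Subgroup G) :=
      (nontrivial_iff_ne_bot _).2 (S.ne_bot_of_dvd_card heven)
    haveI := S.2.center_nontrivial
    obtain ⟨i, hi, hicard⟩ :=
      (S.2.to_subgroup (center ↥(S : Subgroup G))).nontrivial_iff_card.1 inferInstance
    obtain ⟨⟨⟨z, hzS⟩, hzc⟩, hzo⟩ := exists_prime_orderOf_dvd_card' (G := center ↥(S : Subgroup G)) 2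
      (hicard ▸ dvd_pow_self 2 hi.ne')
    rw [orderOf_mk, orderOf_mk] at hzo
    obtain ⟨-, -, -, hcz, -⟩ := hrep z hzo
    have hSz : (S : Subgroup G) ≤ centralizer ({z} : Set G) := fun s hs =>
      mem_centralizer_singleton_iff.2 (congrArg Subtype.val (Subgroup.mem_center_iff.1 hzc ⟨s, hs⟩))
    obtain ⟨j, hj⟩ := S.2.exists_card_eq
    have h1 : 2 ^ j ∣ q ^ 3 * (q + 1) := hj ▸ hcz ▸ card_dvd_of_le hSz
    exact hj ▸ Nat.le_of_dvd (pow_pos (by have := two_le_of_card_sq hF.out; omega) 3)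
      (((Nat.coprime_two_left.2 hq2.add_one).pow_left j).dvd_of_dvd_mul_right h1)
  refine ⟨⟨f, hfi, S, hS', hxa ▸ hcard, ?_, fun g hg p hp => hc g hg p (hxa ▸ hp),
    fun p hp => hself p (hxa ▸ hp), heq⟩⟩
  rw [← hxa, hS']
  intro p hp
  rw [mem_normalizer_iff]
  refine fun s => ⟨?_, ?_⟩
  · rintro ⟨g, rfl⟩; exact hnorm p hp g
  · rintro ⟨g, hg⟩
    have := hnorm p⁻¹ (inv_mem hp) g
    rw [hg] at this
    simpa [mul_assoc] using this

namespace Setup

variable (D : Setup σ q G)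

theorem orderOf_a : orderOf (D.f z₁) = 2 := by
  rw [orderOf_injective D.f D.inj]
  exact orderOf_eq_prime (by rw [pow_two]; exact (mul_self_eq_one z₁).2 rfl)
    fun h => one_ne_zero (congrArg Heis.b h)

theorem a_mem : D.f z₁ ∈ (D.S : Subgroup G) := D.hS ▸ ⟨z₁, rfl⟩

theorem eqC_mem {u : G} (hu : orderOf u = 2) (huS : u ∈ (D.S : Subgroup G)) :
    centralizer ({u} : Set G) = centralizer ({D.f z₁} : Set G) := by
  rw [D.hS] at huS
  obtain ⟨g, rfl⟩ := huS
  refine D.eqC _ _ hu D.orderOf_a ?_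
  rw [← map_mul, ← map_mul, Subgroup.mem_center_iff.1 ((RankOne.UnitarySylow.mem_center_iff z₁).2 rfl) g]

theorem S_le : (D.S : Subgroup G) ≤ centralizer ({D.f z₁} : Set G) := by
  rw [D.hS]
  rintro _ ⟨g, rfl⟩
  exact mem_centralizer_singleton_iff.2 (by
    rw [← map_mul, ← map_mul, Subgroup.mem_center_iff.1 ((RankOne.UnitarySylow.mem_center_iff z₁).2 rfl) g])

/-- Fusion of involutions of `S` happens in its normaliser. -/
theorem mem_normalizer_of_conj {u g : G} (hu : orderOf u = 2) (huS : u ∈ (D.S : Subgroup G))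
    (hgu : g * u * g⁻¹ ∈ (D.S : Subgroup G)) : g ∈ normalizer ((D.S : Subgroup G) : Set G) := by
  refine mem_normalizer_fintype fun s hs => ?_
  have hcu := D.eqC_mem (u := g * u * g⁻¹) (by
    rw [show g * u * g⁻¹ = MulAut.conj g u from rfl, MulEquiv.orderOf_eq, hu]) hgu
  have hs' : g * s * g⁻¹ ∈ centralizer ({g * u * g⁻¹} : Set G) := by
    have h := mem_centralizer_singleton_iff.1 ((D.eqC_mem hu huS).symm ▸ D.S_le hs)
    rw [mem_centralizer_singleton_iff]
    calc g * s * g⁻¹ * (g * u * g⁻¹) = g * (s * u) * g⁻¹ := by group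
      _ = g * (u * s) * g⁻¹ := by rw [h]
      _ = g * u * g⁻¹ * (g * s * g⁻¹) := by group
  obtain ⟨k, hk⟩ := D.S.2 ⟨s, hs⟩
  refine mem_sylow_of_mem_normalizer D.S (k := k) (D.le (hcu ▸ hs')) ?_
  rw [conj_pow, show s ^ 2 ^ k = 1 from congrArg Subtype.val hk, mul_one, mul_inv_cancel]

theorem involution_mem {u : G} (hu : orderOf u = 2) (huN : u ∈ normalizer ((D.S : Subgroup G) : Set G)) :
    u ∈ (D.S : Subgroup G) :=
  mem_sylow_of_mem_normalizer D.S (k := 1) huN (by rw [pow_one, ← hu]; exact pow_orderOf_eq_one u)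

theorem isStronglyEmbedded (hnot : ¬ (D.S : Subgroup G).Normal) :
    Cfsg.IsStronglyEmbedded (normalizer ((D.S : Subgroup G) : Set G)) := by
  haveI : Fact (Nat.Prime 2) := ⟨Nat.prime_two⟩
  refine ⟨fun h => hnot (normalizer_eq_top_iff.1 h), even_iff_two_dvd.2 ?_, fun g hg => ?_⟩
  · have := orderOf_dvd_natCard (⟨_, le_normalizer D.a_mem⟩ : normalizer ((D.S : Subgroup G) : Set G))
    rwa [orderOf_mk, D.orderOf_a] at this
  · by_contra hodd
    rw [Nat.not_odd_iff_even, even_iff_two_dvd] at hodd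
    obtain ⟨⟨u, huN, hug⟩, hu⟩ := exists_prime_orderOf_dvd_card' 2 hodd
    rw [← Subgroup.orderOf_coe] at hu
    obtain ⟨v, hv, rfl⟩ := hug
    have hvo : orderOf v = 2 := ((MulAut.conj g).orderOf_eq v).symm.trans hu
    exact hg (D.mem_normalizer_of_conj hvo (D.involution_mem hvo hv) (D.involution_mem hu huN))

/-- A second involution in the centre of `S`. -/
theorem exists_second (h2 : 2 < q) : ∃ g : Heis σ, g.c = 0 ∧ orderOf (D.f g) = 2 ∧ D.f g ≠ D.f z₁ := by
  classical
  obtain ⟨w, hw0, hw1⟩ : ∃ w : {x : F // σ x = x}, w.1 ≠ 0 ∧ w.1 ≠ 1 := by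
    by_contra hall
    have hle : Nat.card {x : F // σ x = x} ≤ Nat.card Bool := by
      refine Nat.card_le_card_of_injective (fun w => decide (w.1 = 0)) fun a b hab => Subtype.ext ?_
      simp only [decide_eq_decide] at hab
      by_cases ha : a.1 = 0
      · rw [ha, hab.1 ha]
      · by_contra hne
        refine hall ⟨if a.1 = 1 then b else a, ?_, ?_⟩
        · split_ifs with h
          · exact fun e => ha (hab.2 e)
          · exact ha
        · split_ifs with h
          · exact fun e => hne (h.trans e.symm)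
          · exact h
    rw [card_fix (σ := σ) (q := q), show Nat.card Bool = 2 by simp] at hle
    omega
  refine ⟨⟨0, w.1, by rw [w.2, map_zero, mul_zero, RankOne.UnitarySylow.add_self]⟩, rfl, ?_,
    fun h => hw1 (congrArg Heis.b (D.inj h))⟩
  rw [orderOf_injective D.f D.inj]
  exact orderOf_eq_prime (by rw [pow_two]; exact (mul_self_eq_one _).2 rfl) fun h => hw0 (congrArg Heis.b h)

theorem oddCore_eq_bot (D : Setup σ q G) (h2 : 2 < q) : Cfsg.pPrimeCore 2 G = ⊥ := by
  haveI : Fact (Nat.Prime 2) := ⟨Nat.prime_two⟩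
  set O := Cfsg.pPrimeCore 2 G with hO
  haveI : O.Normal := CfsgLib.Solvable.Cores.pPrimeCore_normal 2
  have hodd : (Nat.card O).Coprime 2 := CfsgLib.Solvable.Cores.coprime_card_pPrimeCore 2
  obtain ⟨g, hg, hgo, hgne⟩ := D.exists_second h2
  set A := zpowers (D.f z₁) ⊔ zpowers (D.f g) with hA
  have hAS : A ≤ (D.S : Subgroup G) := sup_le (zpowers_le.2 D.a_mem) (zpowers_le.2 (D.hS ▸ ⟨g, rfl⟩))
  have hAc : A ≤ (Subgroup.center (Heis σ)).map D.f := sup_le
    (zpowers_le.2 ⟨z₁, (RankOne.UnitarySylow.mem_center_iff z₁).2 rfl, rfl⟩)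
    (zpowers_le.2 ⟨g, (RankOne.UnitarySylow.mem_center_iff g).2 hg, rfl⟩)
  have hexp : ∀ a ∈ A, a * a = 1 := fun a ha => by
    obtain ⟨z, hz, rfl⟩ := hAc ha
    rw [← map_mul, (mul_self_eq_one z).2 ((RankOne.UnitarySylow.mem_center_iff z).1 hz), map_one]
  haveI : IsMulCommutative A := ⟨⟨fun x y => Subtype.ext (by
    obtain ⟨z, hz, hzx⟩ := hAc x.2
    obtain ⟨z', hz', hzy⟩ := hAc y.2
    show (x : G) * y = y * x
    rw [← hzx, ← hzy, ← map_mul, ← map_mul, Subgroup.mem_center_iff.1 hz' z])⟩⟩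
  have hnc : ¬ IsCyclic A := by
    intro hc
    obtain ⟨⟨t, ht⟩, htg⟩ := hc.exists_generator
    have h : ∀ a ∈ A, a = 1 ∨ a = t := fun a ha => by
      obtain ⟨i, hi⟩ := mem_zpowers_iff.1 (htg ⟨a, ha⟩)
      have hi' : t ^ i = a := congrArg Subtype.val hi
      obtain ⟨j, rfl | rfl⟩ := Int.even_or_odd' i
      · exact Or.inl (by rw [← hi', zpow_mul, zpow_two, hexp t ht, one_zpow])
      · exact Or.inr (by rw [← hi', zpow_add, zpow_mul, zpow_two, hexp t ht, one_zpow, one_mul, zpow_one])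
    rcases h _ (mem_sup_left (mem_zpowers (D.f z₁))) with e | e
    · exact absurd (e ▸ D.orderOf_a) (by simp)
    rcases h _ (mem_sup_right (mem_zpowers (D.f g))) with e' | e'
    · exact absurd (e' ▸ hgo) (by simp)
    exact hgne (e'.trans e.symm)
  have hAK : A ≤ normalizer (O : Set G) := le_of_le_of_eq le_top (normalizer_eq_top O).symm
  obtain ⟨j, hj⟩ := (D.S.2.to_le hAS).exists_card_eq
  rw [← CfsgLib.Coprime.iSup_centralizer_singleton hnc hAK (hj ▸ hodd.symm.pow_left j), eq_bot_iff]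
  refine iSup₂_le fun a ⟨ha, ha1⟩ => ?_
  have hao : orderOf a = 2 := orderOf_eq_prime (by rw [pow_two]; exact hexp a ha) ha1
  rintro p ⟨hpO, hpa⟩
  rw [SetLike.mem_coe, D.eqC_mem hao (hAS ha)] at hpa
  have hsmall : ∀ p : G, p ∈ O → p ∈ (D.S : Subgroup G) → p = 1 := fun p hpO hpS => by
    obtain ⟨k, hk⟩ := D.S.2 ⟨p, hpS⟩
    exact orderOf_eq_one_iff.1 (Nat.eq_one_of_dvd_coprimes ((Nat.Coprime.pow_right k hodd))
      (Subgroup.orderOf_dvd_natCard O hpO) (orderOf_dvd_of_pow_eq_one (congrArg Subtype.val hk)))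
  have hcomm : ∀ g, p * D.f g = D.f g * p := fun g => by
    have hg : D.f g ∈ (D.S : Subgroup G) := D.hS ▸ ⟨g, rfl⟩
    have h1 : p * D.f g * p⁻¹ * (D.f g)⁻¹ = 1 := hsmall _
      (by
        have := mul_mem hpO (Normal.conj_mem ‹O.Normal› _ (inv_mem hpO) (D.f g))
        simpa [mul_assoc] using this)
      (mul_mem ((mem_normalizer_iff.1 (D.le hpa) _).1 hg) (inv_mem hg))
    rwa [mul_inv_eq_one, mul_inv_eq_iff_eq_mul] at h1
  exact hsmall p hpO (D.hS ▸ D.self p hpa hcomm)

end Setup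

/-- A `2`-element of `SL(2, F)` in characteristic two squares to one. -/
theorem sl2_sq_eq_one {E : Type*} [Field E] [CharP E 2] (g : Matrix.SpecialLinearGroup (Fin 2) E) {k : ℕ}
    (hk : g ^ 2 ^ k = 1) : g * g = 1 := by
  haveI : Fact (Nat.Prime 2) := ⟨Nat.prime_two⟩
  set M : Matrix (Fin 2) (Fin 2) E := g.1 with hM
  have hMk : M ^ 2 ^ k = 1 := by
    rw [hM, ← Matrix.SpecialLinearGroup.coe_pow, hk]; rfl
  have hN : IsNilpotent (M - 1) := ⟨2 ^ k, by
    rw [sub_pow_char_pow_of_commute _ _ (Commute.one_right M), hMk, one_pow, sub_self]⟩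
  have htr : (M - 1).trace = 0 := (Matrix.isNilpotent_trace_of_isNilpotent hN).eq_zero
  have hdet : (M - 1).det = 0 := by
    obtain ⟨j, hj⟩ := hN
    refine eq_zero_of_pow_eq_zero (n := j) ?_
    rw [← Matrix.det_pow, hj, Matrix.det_zero]
  set N := M - 1 with hNdef
  rw [Matrix.trace_fin_two] at htr
  rw [Matrix.det_fin_two] at hdet
  have hsq : N * N = 0 := by
    ext i j
    fin_cases i <;> fin_cases j <;> simp [Matrix.mul_apply, Fin.sum_univ_two]
    · linear_combination N 0 0 * htr - hdet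
    · linear_combination N 0 1 * htr
    · linear_combination N 1 0 * htr
    · linear_combination N 1 1 * htr - hdet
  refine Subtype.ext ?_
  show M * M = 1
  have h2 : (2 : Matrix (Fin 2) (Fin 2) E) = 0 := CharTwo.two_eq_zero
  calc M * M = N * N + 2 * N + 1 := by rw [hNdef]; noncomm_ring
    _ = 1 := by rw [hsq, h2, zero_mul, zero_add, zero_add]

/-- The socle. -/
theorem exists_socle (D : Setup σ q G) (h2 : 2 < q) (hB : BenderStructure G) :
    ∃ (L : Subgroup G) (eL : ↥L ≃* Cfsg.PSU 3 F q), L.Normal ∧ Odd L.index ∧ (D.S : Subgroup G) ≤ L := by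
  classical
  haveI : Fact (Nat.Prime 2) := ⟨Nat.prime_two⟩
  haveI := CfsgLib.Solvable.Cores.pPrimeCore_normal (G := G) 2
  set π := QuotientGroup.mk' (Cfsg.pPrimeCore 2 G) with hπ
  have hπi : Function.Injective π := by
    rw [← MonoidHom.ker_eq_bot_iff, hπ, QuotientGroup.ker_mk', D.oddCore_eq_bot h2]
  set L' := Cfsg.pElementClosure 2 (⊤ : Subgroup (G ⧸ Cfsg.pPrimeCore 2 G)) with hL'
  set L := L'.comap π with hL
  have hL'n : L'.Normal := by
    refine ⟨fun w hw g => ?_⟩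
    have : L'.map (MulAut.conj g).toMonoidHom ≤ L' := by
      rw [hL', Cfsg.pElementClosure, MonoidHom.map_closure]
      refine closure_mono ?_
      rintro _ ⟨v, ⟨-, k, hk⟩, rfl⟩
      exact ⟨mem_top _, k, by rw [MulEquiv.coe_toMonoidHom, MulEquiv.orderOf_eq, hk]⟩
    exact this ⟨w, hw, rfl⟩
  have hLn : L.Normal := hL'n.comap π
  have hSL : (D.S : Subgroup G) ≤ L := fun s hs => by
    obtain ⟨j, hj⟩ := D.S.2 ⟨s, hs⟩
    obtain ⟨j', -, hj'⟩ := (Nat.dvd_prime_pow Nat.prime_two).1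
      ((orderOf_map_dvd π s).trans (orderOf_dvd_of_pow_eq_one (congrArg Subtype.val hj)))
    exact subset_closure ⟨mem_top _, j', hj'⟩
  have hodd : Odd L.index :=
    (Nat.not_even_iff_odd.1 fun h => D.S.not_dvd_index ((even_iff_two_dvd.1 h).trans (index_dvd_of_le hSL)))
  let eq' : ↥L ≃* ↥L' := MulEquiv.ofBijective (π.subgroupComap L')
    ⟨fun a b h => Subtype.ext (hπi (congrArg Subtype.val h)),
      MonoidHom.subgroupComap_surjective_of_surjective _ _ (QuotientGroup.mk'_surjective _)⟩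
  set P : Sylow 2 ↥L := D.S.subtype hSL with hP
  let ι : Heis σ →* ↥L := D.f.codRestrict L fun g => hSL (D.hS ▸ ⟨g, rfl⟩)
  have hιi : Function.Injective ι := fun a b h => D.inj (congrArg Subtype.val h)
  haveI : Finite (Heis σ) := Finite.of_injective D.f D.inj
  have hιP : ι.range = (P : Subgroup ↥L) := by
    ext w
    rw [hP, Sylow.coe_subtype, mem_subgroupOf, D.hS]
    exact ⟨fun ⟨g, hg⟩ => ⟨g, congrArg Subtype.val hg⟩, fun ⟨g, hg⟩ => ⟨g, Subtype.ext hg⟩⟩
  let eP : Heis σ ≃* ↥(P : Subgroup ↥L) := (MonoidHom.ofInjective hιi).trans (MulEquiv.subgroupCongr hιP)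
  have hPcard : Nat.card P = q ^ 3 := by rw [← Nat.card_congr eP.toEquiv, card_heis (σ := σ) (q := q)]
  rcases hB with h1 | ⟨E, _, _, _, -, ⟨e⟩⟩ | ⟨E, _, _, r, hr, h4, hE, ⟨e⟩⟩ | ⟨E, _, _, m, hm, hE, ⟨e⟩⟩
  · exfalso
    obtain ⟨g, hg, hgo, hgne⟩ := D.exists_second h2
    exact hgne ((h1 _ D.orderOf_a).2 _ (mem_centralizer_singleton_iff.2
      (D.comm g hg _ (mem_centralizer_singleton_iff.2 rfl)).symm) hgo)
  · exfalso
    obtain ⟨g, hg⟩ := exists_elt (σ := σ) (1 : F)
    obtain ⟨k, hk⟩ := P.2 (eP g)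
    have hk' : ι g ^ 2 ^ k = 1 := congrArg Subtype.val hk
    have h := sl2_sq_eq_one ((eq'.trans e) (ι g)) (k := k) (by rw [← map_pow, hk', map_one])
    rw [← map_mul, ← map_one (eq'.trans e)] at h
    have h0 := (mul_self_eq_one g).1 (hιi (by rw [map_mul, (eq'.trans e).injective h, map_one]))
    rw [hg] at h0
    exact one_ne_zero h0
  · obtain ⟨l, rfl⟩ : ∃ l, r = 2 ^ l := by
      obtain ⟨p', hp'⟩ := CharP.exists E
      obtain ⟨j, hpp, hj⟩ := FiniteField.card E p'
      rw [hE] at hj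
      obtain ⟨i, -, hi⟩ := (Nat.dvd_prime_pow hpp).1 (hj ▸ dvd_pow_self r two_ne_zero : r ∣ p' ^ (j : ℕ))
      have hp2 : p' = 2 := ((Nat.prime_dvd_prime_iff_eq Nat.prime_two hpp).1
        (Nat.prime_two.dvd_of_dvd_pow (hj ▸ dvd_pow hr.two_dvd two_ne_zero : 2 ∣ p' ^ (j : ℕ)))).symm
      exact ⟨i, hp2 ▸ hi⟩
    have hl : 2 ≤ l := by
      by_contra h
      have : 2 ^ l ≤ 2 ^ 1 := Nat.pow_le_pow_right (by norm_num) (by omega)
      omega
    let P' : Sylow 2 (Cfsg.PSU 3 E (2 ^ l)) :=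
      P.mapSurjective (f := (eq'.trans e).toMonoidHom) (eq'.trans e).surjective
    obtain ⟨h3, -, -⟩ := Cfsg.Agent.S1141.result hl hE P'
    have hrq : 2 ^ l = q := by
      refine Nat.pow_left_injective (n := 3) (by norm_num) ?_
      show (2 ^ l) ^ 3 = q ^ 3
      rw [← h3, ← hPcard, Sylow.card_eq_multiplicity, Sylow.card_eq_multiplicity, Nat.card_congr (eq'.trans e).toEquiv]
    subst hrq
    let u := CfsgLib.Chevalley.G2Two.suCongr (FiniteField.ringEquivOfCardEq (hE.trans hF.out.symm)) 3 (2 ^ l)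
    have hu : (center ↥(Cfsg.SU 3 E (2 ^ l))).map u.toMonoidHom = center ↥(Cfsg.SU 3 F (2 ^ l)) := by
      ext x
      simp only [Subgroup.mem_map, Subgroup.mem_center_iff]
      refine ⟨?_, fun h => ⟨u.symm x, fun g => u.injective ?_, u.apply_symm_apply x⟩⟩
      · rintro ⟨y, hy, rfl⟩ g
        obtain ⟨g, rfl⟩ := u.surjective g
        exact (map_mul u g y).symm.trans ((congrArg u (hy g)).trans (map_mul u y g))
      · rw [map_mul, map_mul, u.apply_symm_apply]; exact h (u g)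
    exact ⟨L, (eq'.trans e).trans (QuotientGroup.congr _ _ u hu), hLn, hodd, hSL⟩
  · exfalso
    have he := CfsgLib.KnownB.SzElem.twist_of_card hE
    let P₀ := CfsgLib.KnownB.Suzuki.sylow2 he
    let P' : Sylow 2 ↥(Cfsg.Lie.Sz E (2 ^ (m + 1))) :=
      P.mapSurjective (f := (eq'.trans e).toMonoidHom) (eq'.trans e).surjective
    have hc : Nat.card P₀ = q ^ 3 := by
      rw [← hPcard, Sylow.card_eq_multiplicity, Sylow.card_eq_multiplicity, Nat.card_congr (eq'.trans e).toEquiv]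
    let i : ↥(P : Subgroup ↥L) ≃* ↥(P₀ : Subgroup ↥(Cfsg.Lie.Sz E (2 ^ (m + 1)))) :=
      (((P : Subgroup ↥L).equivMapOfInjective _ (eq'.trans e).injective).trans
        (MulEquiv.subgroupCongr (rfl : _ = (P' : Subgroup ↥(Cfsg.Lie.Sz E (2 ^ (m + 1))))))).trans (Sylow.equiv P' P₀)
    have hcz : Nat.card (center ↥(P₀ : Subgroup ↥(Cfsg.Lie.Sz E (2 ^ (m + 1))))) = q := by
      rw [← card_center (σ := σ) (q := q)]
      exact (Nat.card_congr (Subgroup.centerCongr (eP.trans i)).toEquiv).symm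
    have hEz : Nat.card (center ↥(P₀ : Subgroup ↥(Cfsg.Lie.Sz E (2 ^ (m + 1))))) = Nat.card E := by
      have hmem : ∀ g, g ∈ center ↥(CfsgLib.KnownB.Suzuki.uGroup he) ↔
          ∃ b, (g : ↥(Cfsg.Lie.Sz E (2 ^ (m + 1)))) = CfsgLib.KnownB.Suzuki.P he 0 b :=
        CfsgLib.KnownB.Suzuki.sylow_center he (CfsgLib.KnownB.Suzuki.exists_pow_ne he hm hE)
      refine (Nat.card_congr (Equiv.ofBijective (fun b : E => (⟨⟨CfsgLib.KnownB.Suzuki.P he 0 b,
        CfsgLib.KnownB.Suzuki.P_mem_uGroup he 0 b⟩, (hmem _).2 ⟨b, rfl⟩⟩ :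
          center ↥(CfsgLib.KnownB.Suzuki.uGroup he))) ⟨?_, ?_⟩)).symm
      · intro b b' h
        exact (CfsgLib.KnownB.Suzuki.P_injective he (congrArg (fun z => (z.1.1 : ↥(Cfsg.Lie.Sz E (2 ^ (m + 1))))) h)).2
      · rintro ⟨g, hg⟩
        obtain ⟨b, hb⟩ := (hmem g).1 hg
        exact ⟨b, Subtype.ext (Subtype.ext hb.symm)⟩
    rw [CfsgLib.KnownB.Suzuki.coe_sylow2, CfsgLib.KnownB.Suzuki.card_uGroup, ← hEz, hcz] at hc
    have := Nat.pow_right_injective (show 2 ≤ q by omega) hc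
    omega

end CfsgLib.Involution.UnitaryCentralizer
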